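import Groth.Agent.EtUnbdd.Exact
import Groth.Agent.EtPBCq.RpushCoprod
import Groth.Agent.EtTorLib.PushColim
import Groth.Agent.EtContLib.BaseSys
import Groth.Agent.EtFound.ExtZeroExact

/-!
# Direct images of exact complexes when the cohomological dimension of qcqs etale schemes is finite
-/

set_option autoImplicit false
set_option linter.style.haveILetI false
set_option backward.isDefEq.respectTransparency false
set_option backward.isDefEq.respectTransparency.types false
set_option maxHeartbeats 1000000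

universe w v u

open CategoryTheory CategoryTheory.Limits AlgebraicGeometry Opposite Abelian CoproductsFromFiniteFiltered

namespace Groth.Agent.EtUnbdd

section Generic

variable {A : Type u} [Category.{v} A] [Abelian A] [HasExt.{w} A]

/-- Cocycles of an exact complex of acyclic objects are coboundaries on objects of finite cohomological
dimension. -/
theorem exists_lift_of_ext (Z : A) (Q : CochainComplex A ℤ) (hQ : Q.Acyclic)
    (hP : ∀ (j : ℤ) (i : ℕ), Subsingleton (Ext Z (Q.X j) (i + 1))) (n : ℕ)
    (hn : ∀ (a : ℤ) (i : ℕ), n < i → Subsingleton (Ext Z (Q.cycles a) i)) (m : ℤ) (z : Z ⟶ Q.cycles m) :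
    ∃ y : Z ⟶ Q.X (m - 1), y ≫ Q.toCycles (m - 1) m = z := by
  have hw : ∀ a b : ℤ, Q.iCycles a ≫ Q.toCycles a b = 0 := fun a b => by
    rw [← cancel_mono (Q.iCycles b), Category.assoc, Q.toCycles_i, Q.iCycles_d, zero_comp]
  have hS : ∀ a b : ℤ, a + 1 = b → (ShortComplex.mk _ _ (hw a b)).ShortExact := fun a b h =>
    { exact := by
        have hd : (ShortComplex.mk (Q.iCycles a) (Q.d a b) (Q.iCycles_d a b)).Exact :=
          ShortComplex.exact_of_f_is_kernel _ (Q.cyclesIsKernel a b (by simp [← h]))
        rw [ShortComplex.exact_iff_exact_up_to_refinements]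
        intro T x hx
        exact hd.exact_up_to_refinements x (by
          show x ≫ Q.d a b = 0
          rw [← Q.toCycles_i a b, reassoc_of% hx, zero_comp])
      mono_f := inferInstanceAs (Mono (Q.iCycles a))
      epi_g := by
        subst h
        have e := hQ (a + 1)
        rw [HomologicalComplex.exactAt_iff_isZero_homology] at e
        exact Preadditive.epi_of_cancel_zero _ fun {T} g hg => by
          obtain ⟨l, hl⟩ := CokernelCofork.IsColimit.desc' (Q.homologyIsCokernel a (a + 1) (by simp)) g hg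
          rw [← hl, e.eq_of_src l 0, comp_zero] }
  have key : ∀ (k : ℕ) (a : ℤ) (i : ℕ), n < i + 1 + k → ∀ x : Ext Z (Q.cycles a) (i + 1), x = 0 := by
    intro k
    induction k with
    | zero => exact fun a i h x => (hn a (i + 1) (by omega)).elim x 0
    | succ k ih =>
      intro a i h x
      have h0 : x.comp (hS (a - 1) a (by omega)).extClass rfl = 0 := ih (a - 1) (i + 1) (by omega) _
      obtain ⟨y, rfl⟩ := Ext.covariant_sequence_exact₃ _ (hS (a - 1) a (by omega)) x rfl h0
      haveI : Subsingleton (Ext Z (ShortComplex.mk _ _ (hw (a - 1) a)).X₂ (i + 1)) := hP (a - 1) i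
      rw [Subsingleton.elim y 0, Ext.zero_comp]
  obtain ⟨y, hy⟩ := Ext.covariant_sequence_exact₃ _ (hS (m - 1) m (by omega)) (Ext.mk₀ z) rfl
    (key n (m - 1) 0 (by omega) _)
  obtain ⟨y, rfl⟩ := (Ext.mk₀_bijective _ _).2 y
  exact ⟨y, (Ext.mk₀_bijective _ _).1 ((Ext.mk₀_comp_mk₀ _ _).symm.trans hy)⟩

end Generic

/-- A coproduct of injective sheaves has no higher cohomology on a qcqs scheme. -/
theorem subsingleton_H_sigma {W : Scheme.{u}} [CompactSpace W] [QuasiSeparatedSpace W] {J : Type (u + 1)}
    (F : J → EtCoh.Ab W) [∀ j, Injective (F j)] [HasCoproduct F] (q : ℕ) :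
    Subsingleton (EtCoh.H W (∐ F) (q + 1)) := by
  haveI := IsGrothendieckAbelian.hasColimits (EtCoh.Ab W)
  haveI : ∀ S, Injective ((liftToFinsetObj (Discrete.functor F)).obj S) := fun S =>
    haveI : Injective (⨁ fun x : S => F x.1.as) := inferInstance
    Injective.of_iso (biproduct.isoCoproduct fun x : S => F x.1.as) inferInstance
  have h := EtLC12.QcqsAcyclic.isCechAcyclic_colimit (liftToFinsetObj (Discrete.functor F))
    fun S => EtLC12.QcqsAcyclic.isCechAcyclic_of_injective _
  have hH := EtLC12.QcqsAcyclic.subsingleton_H_of_isCechAcyclic q _ h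
  let e : colimit (liftToFinsetObj (Discrete.functor F)) ≅ ∐ F :=
    (colimit.isColimit _).coconePointUniqueUpToIso (isColimitFiniteSubproductsCocone F)
  exact @Equiv.subsingleton _ _ ((EtCoh.HF W (q + 1)).mapIso e.symm).addCommGroupIsoToAddEquiv.toEquiv hH

variable {X S : Scheme.{u}}

/-- Exact complexes of sheaves with acyclic terms have surjective sections onto cycles over a qcqs
etale scheme of finite cohomological dimension. -/
theorem surjective_toCycles (M : CochainComplex (EtCoh.Ab X) ℤ) (hM : M.Acyclic) (U : X.Etale)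
    (hP : ∀ (j : ℤ) (i : ℕ), Subsingleton (EtCoh.H U.left ((EtCoh.pull U.hom).obj (M.X j)) (i + 1)))
    (n : ℕ) (hn : ∀ (F : EtCoh.Ab U.left) (q : ℕ), n < q → Subsingleton (EtCoh.H U.left F q)) (m : ℤ) :
    Function.Surjective ((M.toCycles (m - 1) m).hom.app (op U)).hom := by
  intro s
  haveI : Etale U.hom := U.prop
  haveI := EtFound.jCont U.hom
  haveI := EtFound.pull_preservesFiniteLimits U.hom
  let R := EtShriek.restrAlong U.hom
  let eR : R ≅ EtCoh.pull U.hom := EtContLib.etaleRestrIso U.hom
  haveI : PreservesFiniteColimits (EtCoh.pull U.hom) :=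
    haveI : PreservesColimitsOfSize.{0, 0} (EtCoh.pull U.hom) :=
      (EtCoh.pullPushAdj U.hom).leftAdjoint_preservesColimits
    PreservesColimitsOfSize.preservesFiniteColimits _
  haveI : R.Additive := (EtShriek.extZeroAdj U.hom).right_adjoint_additive
  haveI : PreservesFiniteLimits R := preservesFiniteLimits_of_natIso eR.symm
  haveI : PreservesFiniteColimits R := preservesFiniteColimits_of_natIso eR.symm
  let MW := (R.mapHomologicalComplex (ComplexShape.up ℤ)).obj M
  have hMW : MW.Acyclic := fun a =>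
    ((HomologicalComplex.exactAt_iff _ _).1 (hM a)).map R
  have hPW : ∀ (j : ℤ) (i : ℕ), Subsingleton (EtCoh.H U.left (MW.X j) (i + 1)) := fun j i =>
    @Equiv.subsingleton _ _
      ((EtCoh.HF U.left (i + 1)).mapIso (eR.app (M.X j))).addCommGroupIsoToAddEquiv.toEquiv (hP j i)
  let eU : (EtShriek.compEtale U.hom).obj (EtCoh.top U.left) ≅ U :=
    MorphismProperty.Over.isoMk (Iso.refl _) ((Category.id_comp _).trans (Category.id_comp _).symm)
  let c : (R.obj (M.cycles m)) ≅ MW.cycles m := (ShortComplex.mapCyclesIso (M.sc m) R).symm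
  let s₁ : (R.obj (M.cycles m)).obj.obj (op (EtCoh.top U.left)) := (M.cycles m).obj.map eU.hom.op s
  let s₂ : (MW.cycles m).obj.obj (op (EtCoh.top U.left)) := c.hom.hom.app _ s₁
  let adj := EtCore.constAdj U.left
  let z := (adj.homEquiv _ _).symm ((AddCommGrpCat.uliftZMultiplesAddEquiv _).symm s₂)
  obtain ⟨y, hy⟩ := exists_lift_of_ext _ MW hMW hPW n (fun a => hn _) m z
  let one : AddCommGrpCat.of (ULift.{u + 1} ℤ) := ULift.up 1
  let t₀ : (MW.X (m - 1)).obj.obj (op (EtCoh.top U.left)) := adj.homEquiv _ _ y one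
  have ht : (MW.toCycles (m - 1) m).hom.app (op (EtCoh.top U.left)) t₀ = s₂ := by
    have h := congrArg (fun q => adj.homEquiv _ _ q one) hy
    simp only [z, Adjunction.homEquiv_naturality_right, Equiv.apply_symm_apply] at h
    exact h.trans ((AddCommGrpCat.uliftZMultiplesAddEquiv _).apply_symm_apply s₂)
  have hc : MW.toCycles (m - 1) m ≫ c.inv = R.map (M.toCycles (m - 1) m) := by
    rw [← cancel_mono (R.map (M.iCycles m)), Category.assoc, ← R.map_comp, M.toCycles_i]
    refine (congrArg (MW.toCycles (m - 1) m ≫ ·) ?_).trans (MW.toCycles_i _ _)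
    exact ShortComplex.mapCyclesIso_hom_iCycles (M.sc m) R
  refine ⟨(M.X (m - 1)).obj.map eU.inv.op t₀, ?_⟩
  have h₁ : (M.toCycles (m - 1) m).hom.app (op ((EtShriek.compEtale U.hom).obj (EtCoh.top U.left))) t₀ = s₁ := by
    have h := congrArg (fun q => q.hom.app (op (EtCoh.top U.left)) t₀) hc
    refine h.symm.trans ((congrArg (c.inv.hom.app (op (EtCoh.top U.left))) ht).trans ?_)
    exact congrArg (fun q : R.obj (M.cycles m) ⟶ R.obj (M.cycles m) => q.hom.app (op (EtCoh.top U.left)) s₁)
      c.hom_inv_id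
  refine (NatTrans.naturality_apply (M.toCycles (m - 1) m).hom eU.inv.op t₀).trans ?_
  refine (congrArg _ h₁).trans ?_
  refine (Functor.map_comp_apply (M.cycles m).obj eU.hom.op eU.inv.op s).symm.trans ?_
  rw [← op_comp, eU.inv_hom_id, op_id]
  exact congr($((M.cycles m).obj.map_id (op U)) s)

/-- The direct image of an exact complex with acyclic terms is exact when the relevant qcqs etale schemes
have finite cohomological dimension. -/
theorem acyclic_map_push (f : X ⟶ S) [QuasiCompact f] [QuasiSeparated f]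
    (hX : ∀ U : X.Etale, CompactSpace ↥(U.left) → QuasiSeparatedSpace ↥(U.left) →
      ∃ d : ℕ, ∀ (F : EtCoh.Ab U.left) (q : ℕ), d < q → Subsingleton (EtCoh.H U.left F q))
    (M : CochainComplex (EtCoh.Ab X) ℤ) (hM : M.Acyclic)
    (hP : ∀ U : X.Etale, CompactSpace ↥(U.left) → QuasiSeparatedSpace ↥(U.left) → ∀ (j : ℤ) (i : ℕ),
      Subsingleton (EtCoh.H U.left ((EtCoh.pull U.hom).obj (M.X j)) (i + 1))) :
    (((EtCoh.push f).mapHomologicalComplex (ComplexShape.up ℤ)).obj M).Acyclic := by
  intro m
  haveI : PreservesFiniteLimits (EtCoh.push f) := EtFound.push_preservesFiniteLimits f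
  refine exactAt_map_of_epi (EtCoh.push f) M m (EtTorLib.epi_of_locally _ fun V s x => ?_)
  obtain ⟨W, g, hW, w, hw⟩ := EtTorLib.exists_affine_nhd V x
  haveI := hW
  obtain ⟨h1, h2⟩ := EtTorLib.isQcqsObj_bc f W
  obtain ⟨d, hd⟩ := hX _ h1 h2
  obtain ⟨t, ht⟩ := surjective_toCycles M hM _ (hP _ h1 h2) d hd m
    (((EtCoh.push f).obj (M.cycles m)).obj.map g.op s)
  exact ⟨W, g, w, t, ht, hw⟩

end Groth.Agent.EtUnbdd
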