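import Groth.Agent.EtUnbdd.DerUnit
import Groth.Agent.KFlatLib.Scheme.Adjoint
import Groth.Prelude.Def_W4c6etmotetsheavesDMod
import Mathlib.CategoryTheory.Functor.Derived.Adjunction
import Mathlib.CategoryTheory.Adjunction.Unique

/-!
# The base change morphism on unbounded complexes of sheaves of modules
-/

set_option autoImplicit false
set_option linter.style.haveILetI false
set_option maxHeartbeats 1000000
set_option synthInstance.maxHeartbeats 400000
set_option backward.isDefEq.respectTransparency false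
set_option backward.isDefEq.respectTransparency.types false

universe u

open CategoryTheory CategoryTheory.Limits AlgebraicGeometry

attribute [local instance] HasDerivedCategory.standard

namespace Groth.Agent.EtUnbdd.BCMod

/-- A functor factoring through a localization is a left derived functor. -/
theorem isLeftDerived_of_isIso {C D H : Type*} [Category C] [Category D] [Category H] {L : C ⥤ D}
    (W : MorphismProperty C) [L.IsLocalization W] {F : C ⥤ H} {G : D ⥤ H} (α : L ⋙ G ⟶ F) [IsIso α] :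
    G.IsLeftDerivedFunctor α W := by
  haveI := Localization.full_whiskeringLeft L W H
  haveI := Localization.faithful_whiskeringLeft L W H
  refine ⟨⟨⟨IsTerminal.ofUniqueHom
    (fun E => CostructuredArrow.homMk (((Functor.whiskeringLeft C D H).obj L).preimage (E.hom ≫ inv α)) ?_)
    fun E m => ?_⟩⟩⟩
  · show ((Functor.whiskeringLeft C D H).obj L).map _ ≫ α = E.hom
    rw [Functor.map_preimage, Category.assoc, IsIso.inv_hom_id, Category.comp_id]
  · refine CostructuredArrow.hom_ext _ _ (((Functor.whiskeringLeft C D H).obj L).map_injective ?_)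
    refine Eq.trans ?_ (((Functor.whiskeringLeft C D H).obj L).map_preimage _).symm
    rw [IsIso.eq_comp_inv]
    exact CostructuredArrow.w m

section Adj

variable (Λ : Type (u + 1)) [CommRing Λ]

variable {X Y : Scheme.{u}} (g : X ⟶ Y)

/-- The comparison of inverse image on complexes and on derived categories. -/
noncomputable abbrev αD [PreservesFiniteLimits (EtModW.pull Λ g)] :
    DerivedCategory.Qh ⋙ EtBC.pullModD Λ g ⟶
      (EtModW.pull Λ g).mapHomotopyCategory (ComplexShape.up ℤ) ⋙ DerivedCategory.Qh :=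
  (EtModW.pull Λ g).mapDerivedCategoryFactorsh.hom

/-- The comparison of direct image on complexes and on derived categories. -/
noncomputable abbrev βD [EtBC.HasRpushMod Λ g] :
    EtBC.pushModKh Λ g ⟶ DerivedCategory.Qh ⋙ EtBC.RpushModD Λ g :=
  (EtBC.pushModKh Λ g).totalRightDerivedUnit DerivedCategory.Qh
    (HomotopyCategory.quasiIso (EtModW.Mod Λ X) (ComplexShape.up ℤ))

/-- Inverse image is left adjoint to direct image on homotopy categories. -/
noncomputable abbrev adjKD := KFlatLib.adjHtpy (ComplexShape.up ℤ) (EtSix.pullPushModAdj Λ g)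

/-- The derived adjunction with the formula for its counit. -/
theorem exists_adjD [PreservesFiniteLimits (EtModW.pull Λ g)] [EtBC.HasRpushMod Λ g] :
    ∃ a : EtBC.pullModD Λ g ⊣ EtBC.RpushModD Λ g,
      ∀ J, (EtBC.pullModD Λ g).map ((βD Λ g).app J) ≫ a.counit.app (DerivedCategory.Qh.obj J) =
        (αD Λ g).app (((EtModW.push Λ g).mapHomotopyCategory _).obj J) ≫
          DerivedCategory.Qh.map ((adjKD Λ g).counit.app J) := by
  let WX := HomotopyCategory.quasiIso (EtModW.Mod Λ X) (ComplexShape.up ℤ)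
  let WY := HomotopyCategory.quasiIso (EtModW.Mod Λ Y) (ComplexShape.up ℤ)
  let α := αD Λ g
  let β := βD Λ g
  haveI := qh_isLeftAdjoint (A := EtModW.Mod Λ X)
  let adjQ := Adjunction.ofIsLeftAdjoint (DerivedCategory.Qh (C := EtModW.Mod Λ X))
  haveI : (DerivedCategory.Qh.rightAdjoint ⋙ EtBC.pushModKh Λ g).IsRightDerivedFunctor
      (Functor.whiskerRight adjQ.unit (EtBC.pushModKh Λ g)) WX :=
    TriCat.isRightDerivedFunctor_of_adjunction adjQ WX (EtBC.pushModKh Λ g)
  let e₀ : DerivedCategory.Qh.rightAdjoint ⋙ EtBC.pushModKh Λ g ≅ EtBC.RpushModD Λ g :=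
    Functor.rightDerivedUnique _ _ (Functor.whiskerRight adjQ.unit (EtBC.pushModKh Λ g)) β WX
  haveI : (EtBC.RpushModD Λ g ⋙ EtBC.pullModD Λ g).IsRightDerivedFunctor
      (Functor.whiskerRight β (EtBC.pullModD Λ g) ≫ (Functor.associator _ _ _).hom) WX := by
    haveI h := TriCat.isRightDerivedFunctor_of_adjunction adjQ WX (EtBC.pushModKh Λ g ⋙ EtBC.pullModD Λ g)
    refine (Functor.isRightDerivedFunctor_iff_of_iso _ _ WX
      ((Functor.associator _ _ _).symm ≪≫ Functor.isoWhiskerRight e₀ (EtBC.pullModD Λ g)) ?_).1 h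
    ext K
    simp only [NatTrans.comp_app, Functor.whiskerLeft_app, Functor.whiskerRight_app, Iso.trans_hom,
      Iso.symm_hom, Functor.associator_inv_app, Functor.isoWhiskerRight_hom,
      Functor.associator_hom_app, Category.id_comp]
    erw [Category.comp_id]
    refine ((EtBC.pullModD Λ g).map_comp _ _).symm.trans ?_
    congr 1
    exact (Functor.rightDerivedNatTrans_app (DerivedCategory.Qh.rightAdjoint ⋙ EtBC.pushModKh Λ g)
      (EtBC.RpushModD Λ g) (Functor.whiskerRight adjQ.unit (EtBC.pushModKh Λ g)) β WX (𝟙 _) K).trans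
      (Category.id_comp _)
  haveI : (EtBC.pullModD Λ g).IsLeftDerivedFunctor α WY := isLeftDerived_of_isIso WY α
  haveI : (EtBC.pullModD Λ g ⋙ EtBC.RpushModD Λ g).IsLeftDerivedFunctor
      ((Functor.associator _ _ _).inv ≫ Functor.whiskerRight α (EtBC.RpushModD Λ g)) WY :=
    isLeftDerived_of_isIso WY _
  exact ⟨(adjKD Λ g).derived WY WX α β, fun J => Adjunction.derivedε_fac_app (adjKD Λ g) WX α β J⟩


end Adj

section Sq

variable (Λ : Type (u + 1)) [CommRing Λ]

variable {X S X' S' : Scheme.{u}} (f : X ⟶ S) (g : S' ⟶ S) (f' : X' ⟶ S') (g' : X' ⟶ X) (w : g' ≫ f = f' ≫ g)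

/-- The base change map in degree zero as a natural transformation. -/
noncomputable def bc0Nat : EtModW.push Λ f ⋙ EtModW.pull Λ g ⟶ EtModW.pull Λ g' ⋙ EtModW.push Λ f' where
  app F := EtSix.baseChange0Mod Λ f g f' g' w F
  naturality A B φ :=
    ((EtSix.pullPushModAdj Λ g).homEquiv_naturality_left_symm _ _).symm.trans
      ((congrArg ((EtSix.pullPushModAdj Λ g).homEquiv _ _).symm ((EtSix.pushToPushPullMod Λ f g f' g' w).naturality φ)).trans
        ((EtSix.pullPushModAdj Λ g).homEquiv_naturality_right_symm _ _))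

/-- The transformation on homotopy categories. -/
noncomputable def pushHMod : (EtModW.push Λ f).mapHomotopyCategory (ComplexShape.up ℤ) ⟶
    (EtModW.pull Λ g').mapHomotopyCategory (ComplexShape.up ℤ) ⋙
      (EtModW.push Λ f').mapHomotopyCategory (ComplexShape.up ℤ) ⋙
        (EtModW.push Λ g).mapHomotopyCategory (ComplexShape.up ℤ) :=
  NatTrans.mapHomotopyCategory (EtSix.pushToPushPullMod Λ f g f' g' w) (ComplexShape.up ℤ) ≫
    (Functor.mapHomotopyCategoryCompIso (Iso.refl (EtModW.pull Λ g' ⋙ (EtModW.push Λ f' ⋙ EtModW.push Λ g)))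
      (ComplexShape.up ℤ)).inv ≫ Functor.whiskerLeft ((EtModW.pull Λ g').mapHomotopyCategory (ComplexShape.up ℤ))
      (Functor.mapHomotopyCategoryCompIso (Iso.refl (EtModW.push Λ f' ⋙ EtModW.push Λ g)) (ComplexShape.up ℤ)).inv

/-- The base change on complexes of abelian sheaves. -/
noncomputable def thetaD (I : CochainComplex (EtModW.Mod Λ X) ℤ) {J : CochainComplex (EtModW.Mod Λ X') ℤ}
    (ψ : ((EtModW.pull Λ g').mapHomologicalComplex (ComplexShape.up ℤ)).obj I ⟶ J) :
    ((EtModW.pull Λ g).mapHomologicalComplex (ComplexShape.up ℤ)).obj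
        (((EtModW.push Λ f).mapHomologicalComplex (ComplexShape.up ℤ)).obj I) ⟶
      ((EtModW.push Λ f').mapHomologicalComplex (ComplexShape.up ℤ)).obj J :=
  (NatTrans.mapHomologicalComplex (bc0Nat Λ f g f' g' w) (ComplexShape.up ℤ)).app I ≫
    ((EtModW.push Λ f').mapHomologicalComplex (ComplexShape.up ℤ)).map ψ

theorem quotient_bc0 (I : CochainComplex (EtModW.Mod Λ X) ℤ) :
    ((EtModW.pull Λ g).mapHomotopyCategory (ComplexShape.up ℤ)).map
        ((pushHMod Λ f g f' g' w).app ((HomotopyCategory.quotient _ _).obj I)) ≫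
      (adjKD Λ g).counit.app (((EtModW.push Λ f').mapHomotopyCategory _).obj
        (((EtModW.pull Λ g').mapHomotopyCategory _).obj ((HomotopyCategory.quotient _ _).obj I))) =
      (HomotopyCategory.quotient (EtModW.Mod Λ S') (ComplexShape.up ℤ)).map
        ((NatTrans.mapHomologicalComplex (bc0Nat Λ f g f' g' w) (ComplexShape.up ℤ)).app I) := by
  show ((EtModW.pull Λ g).mapHomotopyCategory (ComplexShape.up ℤ)).map
      ((HomotopyCategory.quotient _ _).map
          ((NatTrans.mapHomologicalComplex (EtSix.pushToPushPullMod Λ f g f' g' w) (ComplexShape.up ℤ)).app I) ≫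
        (HomotopyCategory.quotient _ _).map _ ≫ (HomotopyCategory.quotient _ _).map _) ≫ _ = _
  simp only [Functor.map_comp, Category.assoc]
  show (HomotopyCategory.quotient _ _).map _ ≫ (HomotopyCategory.quotient _ _).map _ ≫
    (HomotopyCategory.quotient _ _).map _ ≫ (HomotopyCategory.quotient _ _).map _ = _
  simp only [← Functor.map_comp]
  refine congrArg _ (HomologicalComplex.hom_ext _ _ fun n => ?_)
  simp [EtSix.pushToPushPullMod, bc0Nat, EtSix.baseChange0Mod, Adjunction.homEquiv_counit]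
  repeat (first | erw [CategoryTheory.Functor.map_id] | erw [Category.id_comp])

section Crit

variable [PreservesFiniteLimits (EtModW.pull Λ g)] [PreservesFiniteLimits (EtModW.pull Λ g')]
  [EtBC.HasRpushMod Λ f] [EtBC.HasRpushMod Λ f'] [EtBC.HasRpushMod Λ g] (adj : EtBC.pullModD Λ g ⊣ EtBC.RpushModD Λ g)

/-- The base change morphism as a natural transformation. -/
noncomputable def bcMapNat :
    EtBC.RpushModD Λ f ⋙ EtBC.pullModD Λ g ⟶ EtBC.pullModD Λ g' ⋙ EtBC.RpushModD Λ f' :=
  Functor.whiskerRight (EtBC.bcAdjModD Λ f g f' g' w) (EtBC.pullModD Λ g) ≫ (Functor.associator _ _ _).hom ≫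
    Functor.whiskerLeft (EtBC.pullModD Λ g') ((Functor.associator _ _ _).hom ≫
      Functor.whiskerLeft (EtBC.RpushModD Λ f') adj.counit ≫ (EtBC.RpushModD Λ f').rightUnitor.hom)

theorem bcMapNat_app (K : EtModD.D Λ X) : (bcMapNat Λ f g f' g' w adj).app K = EtBC.bcMapModD Λ f g f' g' w adj K := by
  show (EtBC.pullModD Λ g).map ((EtBC.bcAdjModD Λ f g f' g' w).app K) ≫ 𝟙 _ ≫ 𝟙 _ ≫ adj.counit.app _ ≫ 𝟙 _ = _
  simp only [Category.id_comp, Category.comp_id]
  exact (Adjunction.homEquiv_counit _ _ _ _).symm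

/-- Whether the base change morphism is an isomorphism does not depend on the adjunction. -/
theorem isIso_bcMap_congr (adj' : EtBC.pullModD Λ g ⊣ EtBC.RpushModD Λ g) (K : EtModD.D Λ X) :
    IsIso (EtBC.bcMapModD Λ f g f' g' w adj K) ↔ IsIso (EtBC.bcMapModD Λ f g f' g' w adj' K) := by
  let φ := (EtBC.bcAdjModD Λ f g f' g' w).app K
  let e := (Adjunction.leftAdjointUniq adj' adj).app ((EtBC.RpushModD Λ f).obj K)
  have h : e.hom ≫ EtBC.bcMapModD Λ f g f' g' w adj K = EtBC.bcMapModD Λ f g f' g' w adj' K := by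
    simp only [EtBC.bcMapModD, Adjunction.homEquiv_counit]
    refine (Category.assoc _ _ _).symm.trans ((congrArg (· ≫ _)
      ((Adjunction.leftAdjointUniq adj' adj).hom.naturality φ).symm).trans ((Category.assoc _ _ _).trans ?_))
    exact congrArg (_ ≫ ·) (Adjunction.leftAdjointUniq_hom_app_counit adj' adj _)
  rw [← h]
  exact ⟨fun _ => inferInstance, fun _ => IsIso.of_isIso_comp_left e.hom _⟩

theorem isIso_bcMap_iff_of_iso {K K' : EtModD.D Λ X} (e : K ≅ K') :
    IsIso (EtBC.bcMapModD Λ f g f' g' w adj K) ↔ IsIso (EtBC.bcMapModD Λ f g f' g' w adj K') := by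
  rw [← bcMapNat_app, ← bcMapNat_app]
  exact NatTrans.isIso_app_iff_of_iso _ e

/-- The criterion on K-injective complexes. -/
theorem isIso_bcMap_iff (I : CochainComplex (EtModW.Mod Λ X) ℤ) [I.IsKInjective]
    (J : CochainComplex (EtModW.Mod Λ X') ℤ) [J.IsKInjective]
    (ψ : ((EtModW.pull Λ g').mapHomologicalComplex (ComplexShape.up ℤ)).obj I ⟶ J) [QuasiIso ψ] :
    IsIso (EtBC.bcMapModD Λ f g f' g' w adj (DerivedCategory.Qh.obj ((HomotopyCategory.quotient _ _).obj I))) ↔
      QuasiIso (thetaD Λ f g f' g' w I ψ) := by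
  obtain ⟨a, ha⟩ := exists_adjD Λ g
  rw [isIso_bcMap_congr Λ f g f' g' w adj a]
  let qX := HomotopyCategory.quotient (EtModW.Mod Λ X) (ComplexShape.up ℤ)
  let qX' := HomotopyCategory.quotient (EtModW.Mod Λ X') (ComplexShape.up ℤ)
  let qS' := HomotopyCategory.quotient (EtModW.Mod Λ S') (ComplexShape.up ℤ)
  let T := qX.obj I
  let P := ((EtModW.pull Λ g').mapHomotopyCategory (ComplexShape.up ℤ)).obj T
  let M := ((EtModW.push Λ f').mapHomotopyCategory (ComplexShape.up ℤ)).obj P
  haveI : IsIso ((βD Λ f).app T) := isIso_totalUnit_of_kInjective (EtModW.push Λ f) I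
  haveI : IsIso ((βD Λ f').app (qX'.obj J)) := isIso_totalUnit_of_kInjective (EtModW.push Λ f') J
  have hfac : (βD Λ f).app T ≫ (EtBC.bcAdjModD Λ f g f' g' w).app (DerivedCategory.Qh.obj T) =
      (EtBC.bcUnitMod Λ f g f' g' w).app T :=
    (EtBC.RpushModD Λ f).rightDerived_fac_app (βD Λ f) (HomotopyCategory.quasiIso (EtModW.Mod Λ X) (ComplexShape.up ℤ))
      _ (EtBC.bcUnitMod Λ f g f' g' w) T
  let eF := (EtModW.pull Λ g').mapDerivedCategoryFactorsh.app T
  let b : M ⟶ M := 𝟙 M
  have hU : (EtBC.bcUnitMod Λ f g f' g' w).app T =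
      DerivedCategory.Qh.map ((pushHMod Λ f g f' g' w).app T) ≫ (βD Λ g).app M ≫
        (EtBC.RpushModD Λ g).map ((βD Λ f').app P ≫ (EtBC.RpushModD Λ f').map eF.inv) := by
    simp [EtBC.bcUnitMod, pushHMod, eF, M, P, T]
    try rfl
  have h1 : (EtBC.pullModD Λ g).map ((βD Λ f).app T) ≫ EtBC.bcMapModD Λ f g f' g' w a (DerivedCategory.Qh.obj T) =
      (αD Λ g).app (((EtModW.push Λ f).mapHomotopyCategory _).obj T) ≫
        DerivedCategory.Qh.map (qS'.map ((NatTrans.mapHomologicalComplex (bc0Nat Λ f g f' g' w) (ComplexShape.up ℤ)).app I)) ≫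
          (βD Λ f').app P ≫ (EtBC.RpushModD Λ f').map eF.inv := by
    refine ((a.homEquiv_naturality_left_symm _ _).symm.trans (congrArg _ (hfac.trans (hU.trans
      (Category.assoc _ _ _).symm)))).trans ?_
    refine (a.homEquiv_naturality_right_symm _ _).trans ?_
    refine (congrArg (· ≫ _) ((a.homEquiv_counit _ _ _).trans ((congrArg (· ≫ _) ((EtBC.pullModD Λ g).map_comp _ _)).trans
      ((Category.assoc _ _ _).trans (congrArg (_ ≫ ·) (ha M)))))).trans ?_
    rw [← quotient_bc0 Λ f g f' g' w I, Functor.map_comp]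
    simp only [Category.assoc]
    exact (Category.assoc _ _ _).symm.trans
      ((congrArg (· ≫ _) ((αD Λ g).naturality ((pushHMod Λ f g f' g' w).app T))).trans (Category.assoc _ _ _))
  have h2 : (βD Λ f').app P ≫ (EtBC.RpushModD Λ f').map (DerivedCategory.Qh.map (qX'.map ψ)) =
      DerivedCategory.Qh.map (qS'.map (((EtModW.push Λ f').mapHomologicalComplex _).map ψ)) ≫ (βD Λ f').app (qX'.obj J) :=
    ((βD Λ f').naturality (qX'.map ψ)).symm
  haveI : IsIso (DerivedCategory.Qh.map (qX'.map ψ)) := by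
    haveI : IsIso (DerivedCategory.Q.map ψ) := (DerivedCategory.isIso_Q_map_iff_quasiIso (φ := ψ)).2 inferInstance
    exact (NatIso.isIso_map_iff (DerivedCategory.quotientCompQhIso (EtModW.Mod Λ X')) ψ).2 this
  let r := (EtBC.RpushModD Λ f').map (eF.hom ≫ DerivedCategory.Qh.map (qX'.map ψ))
  haveI : IsIso (eF.hom ≫ DerivedCategory.Qh.map (qX'.map ψ)) := inferInstance
  have h3 : ((EtBC.pullModD Λ g).map ((βD Λ f).app T) ≫ EtBC.bcMapModD Λ f g f' g' w a (DerivedCategory.Qh.obj T)) ≫ r =
      (αD Λ g).app (((EtModW.push Λ f).mapHomotopyCategory _).obj T) ≫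
        DerivedCategory.Qh.map (qS'.map (thetaD Λ f g f' g' w I ψ)) ≫ (βD Λ f').app (qX'.obj J) := by
    have e : (EtBC.RpushModD Λ f').map eF.inv ≫ r = (EtBC.RpushModD Λ f').map (DerivedCategory.Qh.map (qX'.map ψ)) :=
      ((EtBC.RpushModD Λ f').map_comp _ _).symm.trans (congrArg _ (eF.inv_hom_id_assoc _))
    rw [h1, thetaD, Functor.map_comp, Functor.map_comp]
    simp only [Category.assoc]
    refine congrArg (_ ≫ ·) (congrArg (_ ≫ ·) ?_)
    exact (congrArg (_ ≫ ·) e).trans h2
  have h4 : QuasiIso (thetaD Λ f g f' g' w I ψ) ↔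
      IsIso (DerivedCategory.Qh.map (qS'.map (thetaD Λ f g f' g' w I ψ))) :=
    (DerivedCategory.isIso_Q_map_iff_quasiIso (φ := thetaD Λ f g f' g' w I ψ)).symm.trans
      (NatIso.isIso_map_iff (DerivedCategory.quotientCompQhIso (EtModW.Mod Λ S')) _).symm
  rw [h4]
  constructor
  · intro _
    haveI : IsIso ((αD Λ g).app (((EtModW.push Λ f).mapHomotopyCategory _).obj T) ≫
        DerivedCategory.Qh.map (qS'.map (thetaD Λ f g f' g' w I ψ)) ≫ (βD Λ f').app (qX'.obj J)) := by
      rw [← h3]; infer_instance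
    haveI := IsIso.of_isIso_comp_left ((αD Λ g).app (((EtModW.push Λ f).mapHomotopyCategory _).obj T))
      (DerivedCategory.Qh.map (qS'.map (thetaD Λ f g f' g' w I ψ)) ≫ (βD Λ f').app (qX'.obj J))
    exact IsIso.of_isIso_comp_right _ ((βD Λ f').app (qX'.obj J))
  · intro _
    haveI : IsIso (((EtBC.pullModD Λ g).map ((βD Λ f).app T) ≫ EtBC.bcMapModD Λ f g f' g' w a (DerivedCategory.Qh.obj T)) ≫ r) := by
      rw [h3]; infer_instance
    haveI := IsIso.of_isIso_comp_right ((EtBC.pullModD Λ g).map ((βD Λ f).app T) ≫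
      EtBC.bcMapModD Λ f g f' g' w a (DerivedCategory.Qh.obj T)) r
    exact IsIso.of_isIso_comp_left ((EtBC.pullModD Λ g).map ((βD Λ f).app T)) _

end Crit


end Sq

end Groth.Agent.EtUnbdd.BCMod
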