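import Groth.Agent.KFlatLib.Scheme.PullCx

/-!
# Functors preserving exactness of complexes in a class preserve quasi-isomorphisms in it
-/

set_option autoImplicit false
set_option linter.style.haveILetI false

universe v v' u u'

open CategoryTheory CategoryTheory.Limits

namespace Groth.Agent.EtUnbdd

variable {A : Type u} [Category.{v} A] [Abelian A] {B : Type u'} [Category.{v'} B] [Abelian B]
  (F : A ⥤ B) [F.Additive] (P : A → Prop) (hbi : ∀ Y Z : A, P Y → P Z → P (Y ⊞ Z))
  (hiso : ∀ ⦃Y Z : A⦄, (Y ≅ Z) → P Y → P Z)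
  (hF : ∀ M : CochainComplex A ℤ, M.Acyclic → (∀ j, P (M.X j)) →
    ((F.mapHomologicalComplex (ComplexShape.up ℤ)).obj M).Acyclic)

include hbi hiso hF

theorem quasiIso_map_of_cone {K L : CochainComplex A ℤ} (φ : K ⟶ L) [QuasiIso φ] (hK : ∀ j, P (K.X j))
    (hL : ∀ j, P (L.X j)) : QuasiIso ((F.mapHomologicalComplex (ComplexShape.up ℤ)).map φ) :=
  KFlatLib.quasiIso_of_acyclic_cone _
    (KFlatLib.acyclic_of_iso (CochainComplex.mappingCone.mapHomologicalComplexIso φ F)
      (hF _ (KFlatLib.acyclic_cone_of_quasiIso φ)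
        fun j => hiso (KFlatLib.mappingConeXBiprod φ j).symm (hbi _ _ (hK (j + 1)) (hL j))))

end Groth.Agent.EtUnbdd
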