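import Groth.Agent.EtUnbdd.Exact
import Groth.Agent.EtUnbdd.Cone
import Groth.Agent.EtPBCq.Amplitude
import Groth.Agent.EtPBCdim.Bound
import Groth.Agent.EtPBCDMod.Main
import Groth.Agent.EtPBCq.RpushCoprod
import Groth.Agent.EtLC12.QcqsAcyclic

/-!
# Exact unbounded complexes of acyclic sheaves of modules along proper morphisms
-/

set_option autoImplicit false
set_option linter.style.haveILetI false
set_option maxHeartbeats 1000000
set_option synthInstance.maxHeartbeats 400000
set_option backward.isDefEq.respectTransparency false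
set_option backward.isDefEq.respectTransparency.types false

universe u

open CategoryTheory CategoryTheory.Limits AlgebraicGeometry Opposite HomologicalComplex CoproductsFromFiniteFiltered

namespace Groth.Agent.EtUnbdd

/-- Forgetting the scalars preserves colimits. -/
theorem preservesColimits_forget₂ (Λ : Type (u + 1)) [CommRing Λ] :
    PreservesColimitsOfSize.{u + 1, u + 1} (forget₂ (ModuleCat.{u + 1} Λ) AddCommGrpCat.{u + 1}) :=
  ModuleCat.instPreservesColimitsOfSizeAddCommGrpCatForget₂LinearMapIdCarrierAddMonoidHomCarrierOfHasColimitsOfSizeAddCommGrpMax.{u+1,u+1,u+1,u+1} Λ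

variable (Λ : Type (u + 1)) [CommRing Λ] {X S : Scheme.{u}}

/-- Higher direct images of torsion sheaves along a proper morphism vanish in high degree at each
geometric point. -/
theorem exists_bound_stalk (f : X ⟶ S) [IsProper f] {Ω : Type u} [Field Ω] [IsSepClosed Ω]
    (ξ : Spec (CommRingCat.of Ω) ⟶ S) :
    ∃ d : ℕ, ∀ F : EtCoh.Ab X, EtCoh.IsTorsion F → ∀ q : ℕ, d < q →
      IsZero ((EtCoh.stalk ξ).obj ((EtCoh.Rpush f q).obj F)) := by
  haveI : IsProper (pullback.snd f ξ) := MorphismProperty.pullback_snd _ _ ‹IsProper f›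
  haveI : CompactSpace ↥(pullback f ξ) := QuasiCompact.compactSpace_of_compactSpace (pullback.snd f ξ)
  haveI : QuasiSeparatedSpace ↥(pullback f ξ) := quasiSeparatedSpace_of_quasiSeparated (pullback.snd f ξ)
  obtain ⟨n, hn⟩ := EtPBCq.exists_forall_fiber_dim_le (pullback.snd f ξ)
  have hdim : topologicalKrullDim ↥(pullback f ξ) ≤ n := by
    haveI : Subsingleton ↥(Spec (CommRingCat.of Ω)) := FibDim.subsingleton_spec_field _
    refine le_trans (le_of_eq ?_) (hn default)
    refine ((IsHomeomorph.topologicalKrullDim_eq _) ((Scheme.Hom.fiberHomeo (pullback.snd f ξ) default).trans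
      (Homeomorph.setCongr (t := Set.univ) (Set.eq_univ_of_forall fun x =>
        Subsingleton.elim _ _) |>.trans (Homeomorph.Set.univ _))).isHomeomorph).symm
  refine ⟨2 * n, fun F hF q hq => ?_⟩
  obtain ⟨e⟩ := Groth.Agent.S0156.result f ξ F hF q
  haveI : Subsingleton (EtCoh.H (pullback f ξ) ((EtCoh.pull (pullback.fst f ξ)).obj F) q) :=
    CdDim.cohDimLE_of_forall (d := 2 * n + 0) (fun ℓ hℓ =>
      CdDim.cdLEAt_two_dim (pullback.snd f ξ) n hdim hℓ 0
        (CdDim.cdLEAt_zero_of_isSepClosed Ω ℓ)) _ (GalTorLib.isTorsion_pull _ F hF) q hq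
  exact (AddCommGrpCat.isZero_of_subsingleton _).of_iso e

theorem isTorsion_forgetToAb {n : ℕ} (hn : 0 < n) (hΛ : (n : Λ) = 0) (M : EtModW.Mod Λ X) :
    EtCoh.IsTorsion ((EtModD.forgetToAb Λ X).obj M) := fun U s x => by
  refine ⟨U, 𝟙 U, ⟨x, rfl⟩, isOfFinAddOrder_iff_nsmul_eq_zero.2 ⟨n, hn, ?_⟩⟩
  let t : M.obj.obj (op U) := ((EtModD.forgetToAb Λ X).obj M).obj.map (𝟙 U).op s
  show n • t = 0
  rw [← Nat.cast_smul_eq_nsmul Λ, hΛ, zero_smul]

theorem preservesColimitsOfShape_forgetToAb (J : Type (u + 1)) [Category.{u + 1} J] :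
    PreservesColimitsOfShape J (EtModD.forgetToAb Λ X) := by
  haveI := IsGrothendieckAbelian.hasColimits (EtModW.Mod Λ X)
  haveI := IsGrothendieckAbelian.hasColimits (EtCoh.Ab X)
  refine ⟨fun {D} => ?_⟩
  haveI : IsIso (colimit.post D (EtModD.forgetToAb Λ X)) := (EtFound.isIso_iff_stalks _).2 fun Ω _ _ ξ => by
    haveI := EtPBCDMod.preservesFilteredColimits_forget₂ Λ
    let F₂ := forget₂ (ModuleCat.{u + 1} Λ) AddCommGrpCat.{u + 1}
    haveI : PreservesColimitsOfSize.{u + 1, u + 1} F₂ := preservesColimits_forget₂ Λ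
    let e : EtModD.forgetToAb Λ X ⋙ EtCoh.stalk ξ ≅ EtModW.stalk Λ ξ ⋙ F₂ :=
      (Scheme.pointSmallEtale ξ).sheafFiberCompIso F₂
    haveI : PreservesColimitsOfShape J (EtModD.forgetToAb Λ X ⋙ EtCoh.stalk ξ) :=
      preservesColimitsOfShape_of_natIso e.symm
    haveI : IsIso (colimit.post (D ⋙ EtModD.forgetToAb Λ X) (EtCoh.stalk ξ)) := inferInstance
    have h : colimit.post (D ⋙ EtModD.forgetToAb Λ X) (EtCoh.stalk ξ) ≫
        (EtCoh.stalk ξ).map (colimit.post D (EtModD.forgetToAb Λ X)) =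
        colimit.post D (EtModD.forgetToAb Λ X ⋙ EtCoh.stalk ξ) :=
      colimit.post_post D (EtModD.forgetToAb Λ X) (EtCoh.stalk ξ)
    haveI : IsIso (colimit.post D (EtModD.forgetToAb Λ X ⋙ EtCoh.stalk ξ)) := inferInstance
    haveI : IsIso (colimit.post (D ⋙ EtModD.forgetToAb Λ X) (EtCoh.stalk ξ) ≫
        (EtCoh.stalk ξ).map (colimit.post D (EtModD.forgetToAb Λ X))) := by rw [h]; infer_instance
    exact IsIso.of_isIso_comp_left (colimit.post (D ⋙ EtModD.forgetToAb Λ X) (EtCoh.stalk ξ)) _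
  exact preservesColimit_of_isIso_post (EtModD.forgetToAb Λ X) D

variable {Λ}

/-- Sheaves of modules whose underlying abelian sheaf is acyclic for the direct image. -/
def IsPushAcyclic (f : X ⟶ S) (M : EtModW.Mod Λ X) : Prop :=
  TriCat.IsRightAcyclic (EtCoh.push f) ((EtModD.forgetToAb Λ X).obj M)

theorem IsPushAcyclic.of_iso {f : X ⟶ S} {M N : EtModW.Mod Λ X} (e : M ≅ N) (h : IsPushAcyclic f M) :
    IsPushAcyclic f N := fun i hi =>
  (h i hi).of_iso ((EtModD.forgetToAb Λ X ⋙ (EtCoh.push f).rightDerived i).mapIso e).symm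

theorem IsPushAcyclic.biprod {f : X ⟶ S} {M N : EtModW.Mod Λ X} (hM : IsPushAcyclic f M)
    (hN : IsPushAcyclic f N) : IsPushAcyclic f (M ⊞ N) := fun i hi => by
  let Φ := EtModD.forgetToAb Λ X ⋙ (EtCoh.push f).rightDerived i
  haveI := preservesBinaryBiproducts_of_preservesBiproducts Φ
  exact ((biprod_isZero_iff _ _).2 ⟨hM i hi, hN i hi⟩).of_iso (Φ.mapBiprod M N)

theorem IsPushAcyclic.of_injective (f : X ⟶ S) (M : EtModW.Mod Λ X) [Injective M] : IsPushAcyclic f M :=
  EtPBCDMod.isRightAcyclic_push f _ (EtLC12.FlasqueAcyclic.isCechAcyclic_forgetToAb Λ M)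

theorem IsPushAcyclic.sigma (f : X ⟶ S) [QuasiCompact f] [QuasiSeparated f] {J : Type (u + 1)}
    (M : J → EtModW.Mod Λ X) [∀ j, Injective (M j)] [HasCoproduct M] : IsPushAcyclic f (∐ M) := by
  haveI := IsGrothendieckAbelian.hasColimits (EtCoh.Ab X)
  haveI := preservesColimitsOfShape_forgetToAb Λ (X := X) (Discrete J)
  intro i hi
  obtain ⟨q, rfl⟩ := Nat.exists_eq_succ_of_ne_zero hi.ne'
  exact (EtPBCq.isZero_Rpush_sigma f _ (q + 1) fun j => IsPushAcyclic.of_injective f (M j) (q + 1) hi).of_iso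
    ((EtCoh.Rpush f (q + 1)).mapIso (PreservesCoproduct.iso (EtModD.forgetToAb Λ X) M))

variable {n : ℕ} (hn : 0 < n) (hΛ : (n : Λ) = 0)

include hn hΛ

/-- The underlying abelian complex of the direct image of an exact complex of acyclic modules is exact. -/
theorem acyclic_map_push_mod (f : X ⟶ S) [IsProper f] (M : CochainComplex (EtModW.Mod Λ X) ℤ)
    (hM : M.Acyclic) (hP : ∀ j, IsPushAcyclic f (M.X j)) :
    (((EtModW.push Λ f).mapHomologicalComplex (ComplexShape.up ℤ)).obj M).Acyclic := by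
  intro m
  let K := ((EtModW.push Λ f).mapHomologicalComplex (ComplexShape.up ℤ)).obj M
  let A := ((EtModD.forgetToAb Λ X).mapHomologicalComplex (ComplexShape.up ℤ)).obj M
  have hA : A.Acyclic := fun a => ((HomologicalComplex.exactAt_iff _ _).1 (hM a)).map (EtModD.forgetToAb Λ X)
  haveI : PreservesFiniteLimits (EtCoh.push f) := EtPBCDMod.preservesFiniteLimits_push f
  refine (HomologicalComplex.exactAt_iff _ _).2
    ((ShortComplex.exact_map_iff_of_faithful _ (EtModD.forgetToAb Λ S)).1 ?_)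
  refine (EtFound.exact_iff_stalks _).2 fun Ω _ _ ξ => ?_
  obtain ⟨d, hd⟩ := exists_bound_stalk f ξ
  haveI : PreservesBinaryBiproducts (EtCoh.stalk ξ) := preservesBinaryBiproducts_of_preservesBinaryCoproducts _
  haveI : (EtCoh.stalk ξ).Additive := Functor.additive_of_preservesBinaryBiproducts _
  have h := exactAt_map_of_cycles (EtCoh.push f) (EtCoh.stalk ξ) A hA hP d
    (fun a i hi => hd _ (haveI : Mono (A.iCycles a) := inferInstance
      CurveCd.isTorsion_of_mono (A.iCycles a) (isTorsion_forgetToAb Λ hn hΛ (M.X a))) i hi) m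
  exact (HomologicalComplex.exactAt_iff _ _).1 h

theorem quasiIso_map_push_mod (f : X ⟶ S) [IsProper f] {K L : CochainComplex (EtModW.Mod Λ X) ℤ}
    (φ : K ⟶ L) [QuasiIso φ] (hK : ∀ j, IsPushAcyclic f (K.X j)) (hL : ∀ j, IsPushAcyclic f (L.X j)) :
    QuasiIso (((EtModW.push Λ f).mapHomologicalComplex (ComplexShape.up ℤ)).map φ) :=
  quasiIso_map_of_cone (EtModW.push Λ f) (IsPushAcyclic f) (fun _ _ h h' => h.biprod h')
    (fun _ _ e h => h.of_iso e) (fun M hM hP => acyclic_map_push_mod hn hΛ f M hM hP) φ hK hL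

end Groth.Agent.EtUnbdd
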