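import Groth.Agent.EtUnbdd.BCMod
import Groth.Agent.EtUnbdd.Mod
import Groth.Agent.EtPBC0.BaseChangeAb
import Groth.Agent.EtPBCq.ProperBC
import Groth.Prelude.Def_W4c6etmotetsheavesDMod

/-!
# Proper base change on unbounded derived categories of sheaves of modules
-/

set_option autoImplicit false
set_option linter.style.haveILetI false
set_option maxHeartbeats 1000000
set_option synthInstance.maxHeartbeats 400000
set_option backward.isDefEq.respectTransparency false
set_option backward.isDefEq.respectTransparency.types false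

universe u

open CategoryTheory CategoryTheory.Limits AlgebraicGeometry Opposite

attribute [local instance] HasDerivedCategory.standard

namespace Groth.Agent.EtUnbdd

variable {Λ : Type (u + 1)} [CommRing Λ] {X S X' S' : Scheme.{u}} (f : X ⟶ S) (g : S' ⟶ S) (f' : X' ⟶ S')
  (g' : X' ⟶ X) (h : IsPullback g' f' f g) [IsProper f]

include h

theorem isIso_baseChange0Mod_proper (F : EtModW.Mod Λ X) :
    IsIso (EtSix.baseChange0Mod Λ f g f' g' h.w F) := by
  haveI := EtPBC0.isIso_baseChange0 f g f' g' h ((EtModD.forgetToAb Λ X).obj F)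
  have e := EtPBCDMod.baseChange0_forget Λ f g f' g' h.w F
  haveI : IsIso (EtPBCDMod.kappa Λ g ((EtModW.push Λ f).obj F) ≫
      (EtModD.forgetToAb Λ S').map (EtSix.baseChange0Mod Λ f g f' g' h.w F)) := by
    rw [← e]
    infer_instance
  haveI : IsIso ((EtModD.forgetToAb Λ S').map (EtSix.baseChange0Mod Λ f g f' g' h.w F)) :=
    IsIso.of_isIso_comp_left (EtPBCDMod.kappa Λ g ((EtModW.push Λ f).obj F)) _
  exact isIso_of_reflects_iso _ (EtModD.forgetToAb Λ S')

variable {n : ℕ} (hn : 0 < n) (hΛ : (n : Λ) = 0)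

include hn hΛ

theorem isPushAcyclic_pull (M : EtModW.Mod Λ X) (hM : IsPushAcyclic f M) :
    IsPushAcyclic f' ((EtModW.pull Λ g').obj M) := fun i hi => by
  haveI := EtFound.pull_preservesFiniteLimits g'
  haveI := EtPBCq.isIso_bcQ_proper f g f' g' h ((EtModD.forgetToAb Λ X).obj M) (isTorsion_forgetToAb Λ hn hΛ M) i
  haveI : (EtCoh.pull g).Additive := (EtCoh.pullPushAdj g).left_adjoint_additive
  exact ((EtCoh.pull g).map_isZero (hM i hi)).of_iso
    (((EtCoh.Rpush f' i).mapIso (asIso (EtPBCDMod.kappa Λ g' M))).symm ≪≫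
      (asIso (EtBC.bcQ f g f' g' h.w i ((EtModD.forgetToAb Λ X).obj M))).symm)

theorem isIso_bcMapModD_proper [PreservesFiniteLimits (EtModW.pull Λ g)] [PreservesFiniteLimits (EtModW.pull Λ g')]
    [EtBC.HasRpushMod Λ f] [EtBC.HasRpushMod Λ f'] [EtBC.HasRpushMod Λ g]
    (adj : EtBC.pullModD Λ g ⊣ EtBC.RpushModD Λ g) (K : EtModD.D Λ X) :
    IsIso (EtBC.bcMapModD Λ f g f' g' h.w adj K) := by
  haveI : IsProper f' := MorphismProperty.of_isPullback (P := @IsProper) h ‹_›
  obtain ⟨I, q, hI, hq, -, hinj⟩ := TriCat.exists_kInjective_resolution'.{u + 1}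
    ((DerivedCategory.Q (C := EtModW.Mod Λ X)).objPreimage K)
  haveI := hI
  haveI := hq
  obtain ⟨J, ψ, hJ, hψ, -, hJinj⟩ := TriCat.exists_kInjective_resolution'.{u + 1}
    (((EtModW.pull Λ g').mapHomologicalComplex (ComplexShape.up ℤ)).obj I)
  haveI := hJ
  haveI := hψ
  let eK : DerivedCategory.Qh.obj ((HomotopyCategory.quotient _ _).obj I) ≅ K :=
    (DerivedCategory.quotientCompQhIso _).app I ≪≫ (asIso (DerivedCategory.Q.map q)).symm ≪≫
      (DerivedCategory.Q (C := EtModW.Mod Λ X)).objObjPreimageIso K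
  refine (BCMod.isIso_bcMap_iff_of_iso Λ f g f' g' h.w adj eK).1 ((BCMod.isIso_bcMap_iff Λ f g f' g' h.w adj I J ψ).2 ?_)
  haveI : IsIso ((NatTrans.mapHomologicalComplex (BCMod.bc0Nat Λ f g f' g' h.w) (ComplexShape.up ℤ)).app I) := by
    haveI : ∀ k, IsIso (((NatTrans.mapHomologicalComplex (BCMod.bc0Nat Λ f g f' g' h.w)
        (ComplexShape.up ℤ)).app I).f k) := fun k => isIso_baseChange0Mod_proper f g f' g' h (I.X k)
    exact HomologicalComplex.Hom.isIso_of_components _
  haveI := quasiIso_map_push_mod hn hΛ f' ψ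
    (fun k => haveI := hinj k; isPushAcyclic_pull f g f' g' h hn hΛ (I.X k) (IsPushAcyclic.of_injective f (I.X k)))
    (fun k => haveI := hJinj k; IsPushAcyclic.of_injective f' _)
  show QuasiIso (_ ≫ _)
  infer_instance

end Groth.Agent.EtUnbdd
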