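import Groth.Agent.TriCat.DerivedOfAdjunction
import Groth.Agent.TriCat.KInjRes
import Mathlib.CategoryTheory.Triangulated.Adjunction
import Mathlib.Algebra.Homology.DerivedCategory.RightDerivedFunctorPlus

/-!
# The total right derived functor of a functor on a Grothendieck abelian category
-/

set_option autoImplicit false
set_option linter.style.haveILetI false
set_option backward.isDefEq.respectTransparency false
set_option backward.isDefEq.respectTransparency.types false
set_option maxHeartbeats 1000000

universe w w' v v' u u'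

open CategoryTheory CategoryTheory.Limits

noncomputable section

namespace Groth.Agent.EtUnbdd

variable {A : Type u} [Category.{v} A] [Abelian A] [HasDerivedCategory.{w} A]
  {B : Type u'} [Category.{v'} B] [Abelian B] [HasDerivedCategory.{w'} B] (F : A ⥤ B) [F.Additive]
  [(F.mapHomotopyCategory (ComplexShape.up ℤ) ⋙ DerivedCategory.Qh).HasRightDerivedFunctor
    (HomotopyCategory.quasiIso A (ComplexShape.up ℤ))]

/-- The total right derived functor. -/
abbrev RT : DerivedCategory A ⥤ DerivedCategory B :=
  (F.mapHomotopyCategory (ComplexShape.up ℤ) ⋙ DerivedCategory.Qh).totalRightDerived DerivedCategory.Qh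
    (HomotopyCategory.quasiIso A (ComplexShape.up ℤ))

/-- The unit `Q(F K) ⟶ RF(Q K)` on complexes. -/
def derUnit : F.mapHomologicalComplex (ComplexShape.up ℤ) ⋙ DerivedCategory.Q ⟶ DerivedCategory.Q ⋙ RT F :=
  (Functor.isoWhiskerRight (F.mapHomotopyCategoryFactors (ComplexShape.up ℤ)) DerivedCategory.Qh ≪≫
    Functor.associator _ _ _ ≪≫ Functor.isoWhiskerLeft _ (DerivedCategory.quotientCompQhIso B)).inv ≫
  (Functor.associator _ _ _).hom ≫
  Functor.whiskerLeft (HomotopyCategory.quotient A (ComplexShape.up ℤ))
    ((F.mapHomotopyCategory (ComplexShape.up ℤ) ⋙ DerivedCategory.Qh).totalRightDerivedUnit DerivedCategory.Qh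
      (HomotopyCategory.quasiIso A (ComplexShape.up ℤ))) ≫
  (Functor.associator _ _ _).inv ≫
  Functor.whiskerRight (DerivedCategory.quotientCompQhIso A).hom (RT F)

variable [IsGrothendieckAbelian.{v} A]

omit [(F.mapHomotopyCategory (ComplexShape.up ℤ) ⋙ DerivedCategory.Qh).HasRightDerivedFunctor
    (HomotopyCategory.quasiIso A (ComplexShape.up ℤ))] in
theorem qh_isLeftAdjoint : (DerivedCategory.Qh (C := A)).IsLeftAdjoint :=
  TriCat.qh_isLeftAdjoint_of_exists_resolution fun K => by
    obtain ⟨I, q, h1, h2, -⟩ := TriCat.exists_kInjective_resolution'.{v} K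
    exact ⟨I, q, h1, h2⟩

theorem isIso_totalUnit_of_kInjective (I : CochainComplex A ℤ) [I.IsKInjective] :
    IsIso (((F.mapHomotopyCategory (ComplexShape.up ℤ) ⋙ DerivedCategory.Qh).totalRightDerivedUnit DerivedCategory.Qh
      (HomotopyCategory.quasiIso A (ComplexShape.up ℤ))).app
        ((HomotopyCategory.quotient A (ComplexShape.up ℤ)).obj I)) := by
  haveI := qh_isLeftAdjoint (A := A)
  let adj := Adjunction.ofIsLeftAdjoint (DerivedCategory.Qh (C := A))
  let W := HomotopyCategory.quasiIso A (ComplexShape.up ℤ)
  let R := (DerivedCategory.Qh (C := A)).rightAdjoint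
  let G := F.mapHomotopyCategory (ComplexShape.up ℤ) ⋙ DerivedCategory.Qh
  let α : G ⟶ DerivedCategory.Qh ⋙ R ⋙ G := Functor.whiskerRight adj.unit G
  haveI : (R ⋙ G).IsRightDerivedFunctor α W := TriCat.isRightDerivedFunctor_of_adjunction adj W G
  let u' := G.totalRightDerivedUnit DerivedCategory.Qh W
  haveI : IsIso ((R ⋙ G).rightDerivedDesc α W (RT F) u') :=
    (Functor.isRightDerivedFunctor_iff_isIso_rightDerivedDesc (R ⋙ G) α W (RT F) u').1 inferInstance
  have h1 := (R ⋙ G).rightDerived_fac_app α W (RT F) u' ((HomotopyCategory.quotient A (ComplexShape.up ℤ)).obj I)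
  haveI : IsIso (α.app ((HomotopyCategory.quotient A (ComplexShape.up ℤ)).obj I)) := by
    haveI := TriCat.isIso_unit_of_isKInjective adj I
    exact inferInstanceAs (IsIso (G.map (adj.unit.app _)))
  show IsIso (u'.app _)
  rw [← h1]
  infer_instance

theorem isIso_derUnit_of_kInjective (I : CochainComplex A ℤ) [I.IsKInjective] : IsIso ((derUnit F).app I) := by
  have h := isIso_totalUnit_of_kInjective F I
  simp only [derUnit, NatTrans.comp_app, Functor.associator_hom_app, Functor.associator_inv_app,
    Functor.whiskerLeft_app, Functor.whiskerRight_app]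
  erw [isIso_comp_left_iff, isIso_comp_left_iff, isIso_comp_right_iff]
  exact h

/-- The unit is invertible at a complex mapping quasi-isomorphically to a K-injective one, compatibly with `F`. -/
theorem isIso_derUnit_of_quasiIso {T I : CochainComplex A ℤ} [I.IsKInjective] (s : T ⟶ I) [QuasiIso s]
    [QuasiIso ((F.mapHomologicalComplex (ComplexShape.up ℤ)).map s)] : IsIso ((derUnit F).app T) := by
  have h1 : IsIso (DerivedCategory.Q.map ((F.mapHomologicalComplex (ComplexShape.up ℤ)).map s)) := inferInstance
  have h2 : IsIso (DerivedCategory.Q.map s) := inferInstance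
  have h3 := isIso_derUnit_of_kInjective F I
  have w := (derUnit F).naturality s
  simp only [Functor.comp_map] at w
  have h4 : IsIso ((derUnit F).app T ≫ (RT F).map (DerivedCategory.Q.map s)) := by
    rw [← w]
    exact IsIso.comp_isIso' h1 h3
  exact IsIso.of_isIso_comp_right _ ((RT F).map (DerivedCategory.Q.map s))

/-- The total right derived functor is isomorphic to a triangulated functor. -/
theorem exists_triangulated_RT :
    ∃ (G : DerivedCategory A ⥤ DerivedCategory B) (_ : G.CommShift ℤ), G.IsTriangulated ∧ Nonempty (G ≅ RT F) := by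
  haveI := qh_isLeftAdjoint (A := A)
  let adjQ := Adjunction.ofIsLeftAdjoint (DerivedCategory.Qh (C := A))
  let ρ := (DerivedCategory.Qh (C := A)).rightAdjoint
  let W := HomotopyCategory.quasiIso A (ComplexShape.up ℤ)
  let G := F.mapHomotopyCategory (ComplexShape.up ℤ) ⋙ DerivedCategory.Qh
  haveI : (ρ ⋙ G).IsRightDerivedFunctor (Functor.whiskerRight adjQ.unit G) W :=
    TriCat.isRightDerivedFunctor_of_adjunction adjQ W G
  let e : ρ ⋙ G ≅ RT F :=
    Functor.rightDerivedUnique _ _ (Functor.whiskerRight adjQ.unit G)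
      (G.totalRightDerivedUnit DerivedCategory.Qh W) W
  letI := adjQ.rightAdjointCommShift ℤ
  haveI := adjQ.commShift_of_leftAdjoint ℤ
  haveI : ρ.IsTriangulated := adjQ.isTriangulated_rightAdjoint
  haveI : G.IsTriangulated := inferInstance
  exact ⟨ρ ⋙ G, inferInstance, inferInstance, ⟨e⟩⟩

end Groth.Agent.EtUnbdd
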