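import Groth.Agent.TriCat.AcyclicObj
import Groth.Agent.H9Misc.FinDimDerived

/-!
# Images of exact unbounded complexes of acyclic objects
-/

set_option autoImplicit false
set_option linter.style.haveILetI false
set_option maxHeartbeats 1000000

universe v v' v'' u u' u''

open CategoryTheory CategoryTheory.Limits HomologicalComplex

namespace Groth.Agent.EtUnbdd

theorem exactAt_of_epi_toCycles {A : Type u} [Category.{v} A] [Abelian A] {B : Type u'} [Category.{v'} B]
    [Abelian B] {C : Type u''} [Category.{v''} C] [Abelian C] (F : A ⥤ B) [F.Additive] [PreservesFiniteLimits F]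
    (E : B ⥤ C) [E.Additive] [E.PreservesHomology] (Q : CochainComplex A ℤ) (m : ℤ)
    (hepi : Epi (E.map (F.map (Q.toCycles (m - 1) m)))) :
    ((E.mapHomologicalComplex (ComplexShape.up ℤ)).obj
      ((F.mapHomologicalComplex (ComplexShape.up ℤ)).obj Q)).ExactAt m := by
  have hd : (ShortComplex.mk (Q.iCycles m) (Q.d m (m + 1)) (Q.iCycles_d m (m + 1))).Exact :=
    ShortComplex.exact_of_f_is_kernel _ (Q.cyclesIsKernel m (m + 1) (by simp))
  have hker : ((ShortComplex.mk (Q.iCycles m) (Q.d m (m + 1)) (Q.iCycles_d m (m + 1))).map F).Exact :=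
    haveI : Mono (ShortComplex.mk (Q.iCycles m) (Q.d m (m + 1)) (Q.iCycles_d m (m + 1))).f :=
      inferInstanceAs (Mono (Q.iCycles m))
    hd.map_of_mono_of_preservesKernel F inferInstance inferInstance
  rw [HomologicalComplex.exactAt_iff' _ (m - 1) m (m + 1) (by simp) (by simp),
    ShortComplex.exact_iff_exact_up_to_refinements]
  intro T x hx
  obtain ⟨T₁, π₁, hπ₁, y, hy⟩ := (hker.map E).exact_up_to_refinements x hx
  obtain ⟨T₂, π₂, hπ₂, z, hz⟩ := surjective_up_to_refinements_of_epi (E.map (F.map (Q.toCycles (m - 1) m))) y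
  refine ⟨T₂, π₂ ≫ π₁, epi_comp _ _, z, ?_⟩
  show (π₂ ≫ π₁) ≫ x = z ≫ E.map (F.map (Q.d (m - 1) m))
  rw [← Q.toCycles_i (m - 1) m, F.map_comp, E.map_comp, ← Category.assoc z, ← hz, Category.assoc,
    Category.assoc]
  exact congrArg (π₂ ≫ ·) hy

/-- A left exact functor preserves exactness in a degree where it preserves the surjection onto the cycles. -/
theorem exactAt_map_of_epi {A : Type u} [Category.{v} A] [Abelian A] {B : Type u'} [Category.{v'} B]
    [Abelian B] (F : A ⥤ B) [F.Additive] [PreservesFiniteLimits F] (Q : CochainComplex A ℤ) (m : ℤ)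
    (hepi : Epi (F.map (Q.toCycles (m - 1) m))) :
    ((F.mapHomologicalComplex (ComplexShape.up ℤ)).obj Q).ExactAt m :=
  haveI := hepi
  HomologicalComplex.ExactAt.of_iso (exactAt_of_epi_toCycles F (𝟭 B) Q m inferInstance)
    (HomologicalComplex.Hom.isoOfComponents (fun _ => Iso.refl _)
      (fun _ _ _ => (Category.id_comp _).trans (Category.comp_id _).symm))

variable {A : Type u} [Category.{v} A] [Abelian A] [EnoughInjectives A]
  {B : Type u'} [Category.{v'} B] [Abelian B] {C : Type u''} [Category.{v''} C] [Abelian C]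
  (F : A ⥤ B) [F.Additive] [PreservesFiniteLimits F]
  (E : B ⥤ C) [E.Additive] [E.PreservesHomology]

/-- An exact complex of acyclic objects stays exact after applying a left exact functor, seen
through an exact functor killing the higher derived functors of the cycles in high degrees. -/
theorem exactAt_map_of_cycles (Q : CochainComplex A ℤ) (hQ : Q.Acyclic)
    (hP : ∀ j, TriCat.IsRightAcyclic F (Q.X j)) (n : ℕ)
    (hn : ∀ (a : ℤ) (i : ℕ), n < i → IsZero (E.obj ((F.rightDerived i).obj (Q.cycles a)))) (m : ℤ) :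
    ((E.mapHomologicalComplex (ComplexShape.up ℤ)).obj
      ((F.mapHomologicalComplex (ComplexShape.up ℤ)).obj Q)).ExactAt m := by
  let := HasDerivedCategory.standard A
  let := HasDerivedCategory.standard B
  have hw : ∀ a b : ℤ, Q.iCycles a ≫ Q.toCycles a b = 0 := fun a b => by
    rw [← cancel_mono (Q.iCycles b), Category.assoc, Q.toCycles_i, Q.iCycles_d, zero_comp]
  have hS : ∀ a b : ℤ, a + 1 = b → (ShortComplex.mk _ _ (hw a b)).ShortExact := fun a b h =>
    { exact := by
        have hd : (ShortComplex.mk (Q.iCycles a) (Q.d a b) (Q.iCycles_d a b)).Exact :=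
          ShortComplex.exact_of_f_is_kernel _ (Q.cyclesIsKernel a b (by simp [← h]))
        rw [ShortComplex.exact_iff_exact_up_to_refinements]
        intro T x hx
        exact hd.exact_up_to_refinements x (by
          show x ≫ Q.d a b = 0
          rw [← Q.toCycles_i a b, reassoc_of% hx, zero_comp])
      mono_f := inferInstanceAs (Mono (Q.iCycles a))
      epi_g := by
        subst h
        have e := hQ (a + 1)
        rw [exactAt_iff_isZero_homology] at e
        exact Preadditive.epi_of_cancel_zero _ fun {T} g hg => by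
          obtain ⟨l, hl⟩ := CokernelCofork.IsColimit.desc' (Q.homologyIsCokernel a (a + 1) (by simp)) g hg
          rw [← hl, e.eq_of_src l 0, comp_zero] }
  have key : ∀ (k : ℕ) (a : ℤ) (i : ℕ), 0 < i → n < i + k →
      IsZero (E.obj ((F.rightDerived i).obj (Q.cycles a))) := by
    intro k
    induction k with
    | zero => exact fun a i _ h => hn a i (by omega)
    | succ k ih =>
      intro a i hi h
      obtain ⟨δ, w₁, w₂, w₃, -, h₂, -⟩ := TriCat.exists_rightDerived_ses F (hS (a - 1) a (by omega)) i
      exact (h₂.map E).isZero_X₂ ((E.map_isZero (hP (a - 1) i hi)).eq_of_src _ _)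
        ((ih _ (i + 1) (by omega) (by omega)).eq_of_tgt _ _)
  have hepi : Epi (E.map (F.map (Q.toCycles (m - 1) m))) := by
    obtain ⟨δ, w₁, w₂, w₃, -, h₂, -⟩ := TriCat.exists_rightDerived_ses F (hS (m - 1) m (by omega)) 0
    have he : Epi (E.map ((F.rightDerived 0).map (Q.toCycles (m - 1) m))) :=
      (h₂.map E).epi_f ((key n (m - 1) 1 one_pos (by omega)).eq_of_tgt _ _)
    exact ((MorphismProperty.epimorphisms C).arrow_mk_iso_iff
      (E.mapArrow.mapIso (Arrow.isoOfNatIso F.rightDerivedZeroIsoSelf (Arrow.mk (Q.toCycles (m - 1) m))))).1 he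
  exact exactAt_of_epi_toCycles F E Q m hepi

end Groth.Agent.EtUnbdd
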