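import Groth.Agent.EtUnbdd.Mod
import Groth.Agent.EtUnbdd.DerUnit
import Groth.Agent.KFlatLib.Scheme.RpushCoprod
import Groth.Prelude.Def_W4c6etmotetsheavesDMod

/-!
# Unbounded direct images of sheaves of modules along proper morphisms preserve sums
-/

set_option autoImplicit false
set_option linter.style.haveILetI false
set_option maxHeartbeats 1000000
set_option synthInstance.maxHeartbeats 400000
set_option backward.isDefEq.respectTransparency false
set_option backward.isDefEq.respectTransparency.types false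

universe u

open CategoryTheory CategoryTheory.Limits AlgebraicGeometry Opposite

attribute [local instance] HasDerivedCategory.standard

namespace Groth.Agent.EtUnbdd

variable (Λ : Type (u + 1)) [CommRing Λ] {X S : Scheme.{u}}

theorem preservesColimitsOfShape_pushMod (f : X ⟶ S) [QuasiCompact f] [QuasiSeparated f] (J : Type (u + 1)) :
    PreservesColimitsOfShape (Discrete J) (EtModW.push Λ f) := by
  haveI := preservesColimitsOfShape_forgetToAb Λ (X := X) (Discrete J)
  haveI := preservesColimitsOfShape_forgetToAb Λ (X := S) (Discrete J)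
  haveI := EtPBCq.preservesCoproducts_push f J
  haveI := IsGrothendieckAbelian.hasColimits (EtModW.Mod Λ X)
  haveI := IsGrothendieckAbelian.hasColimits (EtModW.Mod Λ S)
  haveI : PreservesColimitsOfShape (Discrete J) (EtModW.push Λ f ⋙ EtModD.forgetToAb Λ S) :=
    preservesColimitsOfShape_of_natIso (F := EtModD.forgetToAb Λ X ⋙ EtCoh.push f)
      (NatIso.ofComponents (fun _ => Iso.refl _) fun _ => rfl)
  haveI : (EtModD.forgetToAb Λ S).ReflectsIsomorphisms := inferInstance
  haveI : ReflectsColimitsOfShape (Discrete J) (EtModD.forgetToAb Λ S) :=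
    reflectsColimitsOfShape_of_reflectsIsomorphisms
  exact preservesColimitsOfShape_of_reflects_of_preserves _ (EtModD.forgetToAb Λ S)

variable {Λ} {n : ℕ} (hn : 0 < n) (hΛ : (n : Λ) = 0) (f : X ⟶ S) [IsProper f] [EtBC.HasRpushMod Λ f]

include hn hΛ

theorem isIso_derUnit_mod (T : CochainComplex (EtModW.Mod Λ X) ℤ) (hT : ∀ j, IsPushAcyclic f (T.X j)) :
    IsIso ((derUnit (EtModW.push Λ f)).app T) := by
  obtain ⟨I, s, hI, hs, -, hinj⟩ := TriCat.exists_kInjective_resolution'.{u + 1} T
  haveI := hI
  haveI := hs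
  haveI := quasiIso_map_push_mod hn hΛ f s hT (fun j => haveI := hinj j; IsPushAcyclic.of_injective f _)
  exact isIso_derUnit_of_quasiIso (EtModW.push Λ f) s

theorem preservesCoproducts_RpushModD (ι : Type (u + 1)) :
    PreservesColimitsOfShape (Discrete ι) (EtBC.RpushModD Λ f) := by
  suffices H : ∀ C : ι → EtModD.D Λ X, PreservesColimit (Discrete.functor C) (EtBC.RpushModD Λ f) from
    ⟨fun {K} => have := H fun i => K.obj ⟨i⟩; preservesColimit_of_iso_diagram _ Discrete.natIsoFunctor.symm⟩
  intro C
  choose L q hL hq hinj using fun j =>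
    (let ⟨I, q, h1, h2, _, h4⟩ := TriCat.exists_kInjective_resolution'.{u + 1}
      ((DerivedCategory.Q (C := EtModW.Mod Λ X)).objPreimage (C j))
     (⟨I, q, h1, h2, h4⟩ : ∃ (I : CochainComplex (EtModW.Mod Λ X) ℤ)
        (q : (DerivedCategory.Q (C := EtModW.Mod Λ X)).objPreimage (C j) ⟶ I),
        I.IsKInjective ∧ QuasiIso q ∧ ∀ n, Injective (I.X n)))
  haveI := fun j => hq j
  haveI := IsGrothendieckAbelian.hasColimits (EtModW.Mod Λ X)
  haveI := IsGrothendieckAbelian.hasColimits (EtModW.Mod Λ S)
  haveI : HasColimitsOfShape (Discrete ι) (EtModD.D Λ X) := TriCat.hasColimitsOfShape_derivedCategory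
  haveI : HasColimitsOfShape (Discrete ι) (EtModD.D Λ S) := TriCat.hasColimitsOfShape_derivedCategory
  haveI := preservesColimitsOfShape_pushMod Λ f ι
  haveI : PreservesColimitsOfShape (Discrete ι) ((EtModW.push Λ f).mapHomologicalComplex (ComplexShape.up ℤ)) :=
    ⟨fun {K} => ⟨fun {c} hc => ⟨HomologicalComplex.isColimitOfEval _ _ fun m =>
      isColimitOfPreserves (HomologicalComplex.eval (EtModW.Mod Λ X) (ComplexShape.up ℤ) m ⋙ EtModW.push Λ f) hc⟩⟩⟩
  haveI : IsIso (sigmaComparison (EtBC.RpushModD Λ f) C) :=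
    KFlatLib.isIso_sigmaDesc' (EtBC.RpushModD Λ f) _ (derUnit (EtModW.push Λ f)) C L
      (fun j => (asIso (DerivedCategory.Q.map (q j))).symm ≪≫
        (DerivedCategory.Q (C := EtModW.Mod Λ X)).objObjPreimageIso (C j))
      (fun j => haveI := hL j; isIso_derUnit_of_kInjective (EtModW.push Λ f) (L j))
      (isIso_derUnit_mod hn hΛ f _ fun m => by
        haveI : ∀ j, Injective ((L j).X m) := fun j => hinj j m
        exact (IsPushAcyclic.sigma f fun j => (L j).X m).of_iso
          (PreservesCoproduct.iso (HomologicalComplex.eval (EtModW.Mod Λ X) (ComplexShape.up ℤ) m) L).symm)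
  exact PreservesCoproduct.of_iso_comparison (EtBC.RpushModD Λ f) C

end Groth.Agent.EtUnbdd
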