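import Groth.Agent.EtUnbdd.Abelian
import Groth.Agent.EtUnbdd.Cone
import Groth.Agent.TriCat.KInjRes

/-!
# The derived unit on unbounded complexes with acyclic terms
-/

set_option autoImplicit false
set_option linter.style.haveILetI false
set_option backward.isDefEq.respectTransparency false
set_option backward.isDefEq.respectTransparency.types false
set_option maxHeartbeats 1000000

universe u

open CategoryTheory CategoryTheory.Limits AlgebraicGeometry Opposite

attribute [local instance] HasDerivedCategory.standard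

namespace Groth.Agent.EtUnbdd

/-- Acyclicity on every quasi-compact quasi-separated etale scheme. -/
def IsQcqsAcyclic {X : Scheme.{u}} (G : EtCoh.Ab X) : Prop :=
  ∀ U : X.Etale, CompactSpace ↥(U.left) → QuasiSeparatedSpace ↥(U.left) → ∀ i : ℕ,
    Subsingleton (EtCoh.H U.left ((EtCoh.pull U.hom).obj G) (i + 1))

theorem IsQcqsAcyclic.of_iso {X : Scheme.{u}} {F G : EtCoh.Ab X} (e : F ≅ G) (h : IsQcqsAcyclic F) :
    IsQcqsAcyclic G := fun U h1 h2 i =>
  @Equiv.subsingleton _ _
    ((EtCoh.pull U.hom ⋙ EtCoh.HF U.left (i + 1)).mapIso e).symm.addCommGroupIsoToAddEquiv.toEquiv (h U h1 h2 i)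

theorem IsQcqsAcyclic.sigma {X : Scheme.{u}} {J : Type (u + 1)} (F : J → EtCoh.Ab X) [∀ j, Injective (F j)]
    [HasCoproduct F] : IsQcqsAcyclic (∐ F) := fun U h1 h2 i => by
  haveI : Etale U.hom := U.prop
  haveI : ∀ j, Injective ((EtCoh.pull U.hom).obj (F j)) := fun j => EtContLib.injective_pull_etale U.hom (F j)
  haveI := IsGrothendieckAbelian.hasColimits (EtCoh.Ab U.left)
  haveI : PreservesColimitsOfSize.{u + 1, u + 1} (EtCoh.pull U.hom) :=
    (EtCoh.pullPushAdj U.hom).leftAdjoint_preservesColimits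
  exact @Equiv.subsingleton _ _
    ((EtCoh.HF U.left (i + 1)).mapIso (PreservesCoproduct.iso (EtCoh.pull U.hom) F)).addCommGroupIsoToAddEquiv.toEquiv
    (@subsingleton_H_sigma U.left h1 h2 _ (fun j => (EtCoh.pull U.hom).obj (F j)) _ _ i)

theorem IsQcqsAcyclic.of_injective {X : Scheme.{u}} (G : EtCoh.Ab X) [Injective G] : IsQcqsAcyclic G :=
  fun U _ _ i => by
    haveI : Etale U.hom := U.prop
    haveI := EtContLib.injective_pull_etale U.hom G
    exact subsingleton_of_forall_eq 0 fun x => Abelian.Ext.eq_zero_of_injective x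

theorem IsQcqsAcyclic.biprod {X : Scheme.{u}} {F G : EtCoh.Ab X} (hF : IsQcqsAcyclic F) (hG : IsQcqsAcyclic G) :
    IsQcqsAcyclic (F ⊞ G) := fun U h1 h2 i => by
  haveI : (EtCoh.pull U.hom).Additive := (EtCoh.pullPushAdj U.hom).left_adjoint_additive
  let Φ := EtCoh.pull U.hom ⋙ EtCoh.HF U.left (i + 1)
  haveI : (EtCoh.HF U.left (i + 1)).Additive := by unfold EtCoh.HF; infer_instance
  haveI := preservesBinaryBiproducts_of_preservesBiproducts Φ
  haveI : Subsingleton (Φ.obj F) := hF U h1 h2 i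
  haveI : Subsingleton (Φ.obj G) := hG U h1 h2 i
  have hb : IsZero (Φ.obj (F ⊞ G)) := ((biprod_isZero_iff _ _).2
    ⟨AddCommGrpCat.isZero_of_subsingleton _, AddCommGrpCat.isZero_of_subsingleton _⟩).of_iso (Φ.mapBiprod F G)
  exact AddCommGrpCat.subsingleton_of_isZero hb

variable {X S : Scheme.{u}} (f : X ⟶ S) [QuasiCompact f] [QuasiSeparated f] [DCoh.HasRpushEt X f]
  (hX : ∀ U : X.Etale, CompactSpace ↥(U.left) → QuasiSeparatedSpace ↥(U.left) →
    ∃ d : ℕ, ∀ (F : EtCoh.Ab U.left) (q : ℕ), d < q → Subsingleton (EtCoh.H U.left F q))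

include hX

theorem isIso_rpushUnitEt (T : CochainComplex (EtCoh.Ab X) ℤ) (hT : ∀ j, IsQcqsAcyclic (T.X j)) :
    IsIso ((EtPBCq.rpushUnitEt f).app T) := by
  obtain ⟨I, s, hI, hs, -, hinj⟩ := TriCat.exists_kInjective_resolution'.{u + 1} T
  haveI := hI
  haveI := hs
  haveI := quasiIso_map_of_cone (EtCoh.push f) IsQcqsAcyclic (fun _ _ h h' => h.biprod h')
    (fun _ _ e h => h.of_iso e) (fun M hM hP => acyclic_map_push f hX M hM fun U h1 h2 j i => hP j U h1 h2 i)
    s hT (fun j => haveI := hinj j; IsQcqsAcyclic.of_injective _)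
  have h1 : IsIso (DerivedCategory.Q.map (((EtCoh.push f).mapHomologicalComplex (ComplexShape.up ℤ)).map s)) :=
    inferInstance
  have h2 : IsIso (DerivedCategory.Q.map s) := inferInstance
  have h3 := EtPBCq.isIso_rpushUnitEt_of_kInjective f I
  have w := (EtPBCq.rpushUnitEt f).naturality s
  simp only [Functor.comp_map] at w
  have h4 : IsIso ((EtPBCq.rpushUnitEt f).app T ≫ (DCoh.RpushEt X f).map (DerivedCategory.Q.map s)) := by
    rw [← w]
    exact IsIso.comp_isIso' h1 h3
  exact IsIso.of_isIso_comp_right _ ((DCoh.RpushEt X f).map (DerivedCategory.Q.map s))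

theorem preservesCoproducts_RpushEt (ι : Type (u + 1)) : PreservesColimitsOfShape (Discrete ι) (DCoh.RpushEt X f) := by
  suffices H : ∀ C : ι → DCoh.DEt X, PreservesColimit (Discrete.functor C) (DCoh.RpushEt X f) from
    ⟨fun {K} => have := H fun i => K.obj ⟨i⟩; preservesColimit_of_iso_diagram _ Discrete.natIsoFunctor.symm⟩
  intro C
  choose L q hL hq hinj using fun j =>
    (let ⟨I, q, h1, h2, _, h4⟩ := TriCat.exists_kInjective_resolution'.{u + 1}
      ((DerivedCategory.Q (C := EtCoh.Ab X)).objPreimage (C j))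
     (⟨I, q, h1, h2, h4⟩ : ∃ (I : CochainComplex (EtCoh.Ab X) ℤ)
        (q : (DerivedCategory.Q (C := EtCoh.Ab X)).objPreimage (C j) ⟶ I),
        I.IsKInjective ∧ QuasiIso q ∧ ∀ n, Injective (I.X n)))
  haveI := fun j => hq j
  haveI := IsGrothendieckAbelian.hasColimits (EtCoh.Ab X)
  refine EtPBCq.preservesColimit_RpushEt f C L
    (fun j => (asIso (DerivedCategory.Q.map (q j))).symm ≪≫
      (DerivedCategory.Q (C := EtCoh.Ab X)).objObjPreimageIso (C j))
    (fun j => haveI := hL j; EtPBCq.isIso_rpushUnitEt_of_kInjective f (L j))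
    (isIso_rpushUnitEt f hX _ fun m => ?_)
  haveI : ∀ j, Injective ((L j).X m) := fun j => hinj j m
  exact (IsQcqsAcyclic.sigma fun j => (L j).X m).of_iso
    (PreservesCoproduct.iso (HomologicalComplex.eval (EtCoh.Ab X) (ComplexShape.up ℤ) m) L).symm

end Groth.Agent.EtUnbdd
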